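import Groth.Prelude.Def_FEt
import Mathlib.AlgebraicGeometry.Geometrically.Irreducible
import Mathlib.AlgebraicGeometry.Morphisms.UniversallyOpen
import Mathlib.AlgebraicGeometry.Morphisms.QuasiFinite

/-!
# Connectedness of pullbacks along flat morphisms with irreducible fibres
-/

universe u

open AlgebraicGeometry CategoryTheory CategoryTheory.Limits Topology

namespace ConnPullLib

theorem isClosed_of_stable {Z : Type u} [TopologicalSpace Z] (F : Set Z) (hF : F.Finite)
    (hgen : ∀ z, ∃ w ∈ F, w ⤳ z) (S : Set Z) (hg : StableUnderGeneralization S)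
    (hs : StableUnderSpecialization S) : IsClosed S := by
  have : S = ⋃ w ∈ F ∩ S, closure {w} := by
    ext z
    simp only [Set.mem_iUnion, Set.mem_inter_iff]
    constructor
    · intro hz
      obtain ⟨w, hw, hwz⟩ := hgen z
      exact ⟨w, ⟨hw, hg hwz hz⟩, hwz.mem_closure⟩
    · rintro ⟨w, ⟨-, hw⟩, hz⟩
      exact hs (specializes_iff_mem_closure.2 hz) hw
  rw [this]
  exact (hF.inter_of_left S).isClosed_biUnion fun _ _ => isClosed_closure

theorem connectedSpace_of_flat {X Z W : Scheme.{u}} [IrreducibleSpace X] (h : Z ⟶ X) [Flat h] [IsFinite h]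
    [ConnectedSpace Z] (q : W ⟶ Z) [Flat q] [GeometricallyIrreducible q] : ConnectedSpace W := by
  haveI : Nonempty W := ⟨(q.surjective (Classical.arbitrary Z)).choose⟩
  have hfib : ∀ z : Z, IsIrreducible (q ⁻¹' {z}) := fun z => by
    rw [← q.range_fiberι, ← Set.image_univ]
    exact (IrreducibleSpace.isIrreducible_univ _).image _ (q.fiberι _).continuous.continuousOn
  let η : X := genericPoint X
  have hgen : ∀ z : Z, ∃ w ∈ h ⁻¹' {η}, w ⤳ z := fun z => by
    obtain ⟨w, hw, hwη⟩ := (Flat.generalizingMap h) (genericPoint_specializes (h z))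
    exact ⟨w, hwη, hw⟩
  have hfin : (h ⁻¹' {η}).Finite := h.finite_preimage_singleton η
  suffices hp : PreconnectedSpace W from { toPreconnectedSpace := hp, toNonempty := inferInstance }
  refine preconnectedSpace_iff_clopen.2 fun A hA => ?_
  have hdisj : ∀ B : Set W, IsClopen B → ∀ w ∈ B, ∀ w', q w' = q w → w' ∈ B := fun B hB w hw w' e =>
    (hfib (q w)).2.isPreconnected.subset_isClopen hB ⟨w, rfl, hw⟩ e
  have himg : ∀ B : Set W, IsClopen B → StableUnderGeneralization (q '' B) := by
    rintro B hB z z' hz ⟨w, hw, rfl⟩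
    obtain ⟨w', hw', e⟩ := (Flat.generalizingMap q) hz
    exact ⟨w', hw'.mem_open hB.2 hw, e⟩
  have hcompl : (q '' A)ᶜ = q '' Aᶜ := by
    ext z
    obtain ⟨w, rfl⟩ := q.surjective z
    constructor
    · exact fun hz => ⟨w, fun hw => hz ⟨w, hw, rfl⟩, rfl⟩
    · rintro ⟨w', hw', e⟩ ⟨w'', hw'', e'⟩
      exact hw' (hdisj A hA w'' hw'' w' (e.trans e'.symm))
  have hcl : ∀ B : Set W, IsClopen B → (q '' B)ᶜ = q '' Bᶜ → IsClosed (q '' B) := fun B hB hc =>
    isClosed_of_stable _ hfin hgen _ (himg B hB) (by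
      have := (himg Bᶜ hB.compl)
      rw [← hc, stableUnderGeneralization_compl_iff] at this
      exact this)
  have hclopen : IsClopen (q '' A) := ⟨hcl A hA hcompl, by
    rw [← isClosed_compl_iff, hcompl]
    exact hcl Aᶜ hA.compl (by rw [compl_compl, ← hcompl, compl_compl])⟩
  rcases isClopen_iff.1 hclopen with e | e
  · exact Or.inl (Set.image_eq_empty.1 e)
  · right
    rw [← compl_compl (q '' A), hcompl, Set.compl_univ_iff] at e
    exact Set.compl_empty_iff.1 (Set.image_eq_empty.1 e)

end ConnPullLib
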